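import Groth.Agent.Hensel.EssSub
import Groth.Agent.Hensel.EtLikeNormal
import Groth.Prelude.Def_Pi1
import Mathlib.AlgebraicGeometry.Morphisms.Etale
import Mathlib.RingTheory.RingHom.Etale

/-!
# Local rings of étale morphisms

* `isEssentiallyEtale_stalk`, `isEtLike_stalk` : `O_{Y,f x} → O_{X,x}` is essentially étale
* `normal_stalk_iff`, `isNormalScheme_of_etale` : normality passes along étale morphisms (no noetherian hypothesis)
-/

set_option backward.isDefEq.respectTransparency.types false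

noncomputable section

universe u

open CategoryTheory AlgebraicGeometry TensorProduct

namespace Groth.Agent.EtNormal

variable {X Y : Scheme.{u}} (f : X ⟶ Y) [Etale f] (x : X)

theorem isEssentiallyEtale_stalk :
    @EGA4loc.IsEssentiallyEtale (Y.presheaf.stalk (f x)) (X.presheaf.stalk x) _ _ _
      (f.stalkMap x).hom.toAlgebra := by
  classical
  obtain ⟨_, ⟨U, hU, rfl⟩, hxU, -⟩ :=
    Y.isBasis_affineOpens.exists_subset_of_mem_open (Set.mem_univ (f x)) isOpen_univ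
  obtain ⟨_, ⟨V, hV, rfl⟩, hxV, e⟩ :=
    X.isBasis_affineOpens.exists_subset_of_mem_open (show x ∈ f ⁻¹ᵁ U from hxU) (f ⁻¹ᵁ U).2
  letI : Algebra (Y.presheaf.stalk (f x)) (X.presheaf.stalk x) := (f.stalkMap x).hom.toAlgebra
  letI : Algebra Γ(Y, U) Γ(X, V) := (f.appLE U V e).hom.toAlgebra
  letI : Algebra Γ(Y, U) (Y.presheaf.stalk (f x)) := TopCat.Presheaf.algebra_section_stalk Y.presheaf ⟨f x, hxU⟩
  letI : Algebra Γ(X, V) (X.presheaf.stalk x) := TopCat.Presheaf.algebra_section_stalk X.presheaf ⟨x, hxV⟩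
  letI : Algebra Γ(Y, U) (X.presheaf.stalk x) :=
    ((algebraMap Γ(X, V) (X.presheaf.stalk x)).comp (algebraMap Γ(Y, U) Γ(X, V))).toAlgebra
  haveI : IsScalarTower Γ(Y, U) Γ(X, V) (X.presheaf.stalk x) := .of_algebraMap_eq' rfl
  have hcomm : f.appLE U V e ≫ X.presheaf.germ V x hxV = Y.presheaf.germ U (f x) hxU ≫ f.stalkMap x := by
    rw [Scheme.Hom.germ_stalkMap, Scheme.Hom.appLE, Category.assoc, X.presheaf.germ_res]
  haveI : IsScalarTower Γ(Y, U) (Y.presheaf.stalk (f x)) (X.presheaf.stalk x) :=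
    .of_algebraMap_eq' (congrArg CommRingCat.Hom.hom hcomm)
  haveI : IsLocalization.AtPrime (Y.presheaf.stalk (f x)) (hU.primeIdealOf ⟨f x, hxU⟩).asIdeal :=
    hU.isLocalization_stalk ⟨f x, hxU⟩
  haveI : IsLocalization.AtPrime (X.presheaf.stalk x) (hV.primeIdealOf ⟨x, hxV⟩).asIdeal :=
    hV.isLocalization_stalk ⟨x, hxV⟩
  haveI : Algebra.Etale Γ(Y, U) Γ(X, V) :=
    RingHom.etale_algebraMap.1 (HasRingHomProperty.appLE (P := @Etale) f ‹_› ⟨U, hU⟩ ⟨V, hV⟩ e)
  let p := (hU.primeIdealOf ⟨f x, hxU⟩).asIdeal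
  let P := (hV.primeIdealOf ⟨x, hxV⟩).asIdeal
  let R := Y.presheaf.stalk (f x)
  let B := Γ(X, V)
  let S := X.presheaf.stalk x
  let μ : R ⊗[Γ(Y, U)] B →ₐ[R] S :=
    Algebra.TensorProduct.lift (Algebra.ofId R S) (IsScalarTower.toAlgHom Γ(Y, U) B S) (fun _ _ => Commute.all _ _)
  have hμ : ∀ b : B, μ (1 ⊗ₜ b) = algebraMap B S b := fun b => by simp [μ]
  let q : Ideal (R ⊗[Γ(Y, U)] B) := (IsLocalRing.maximalIdeal S).comap μ.toRingHom
  have hlocal : IsLocalHom (algebraMap R S) := inferInstanceAs (IsLocalHom (f.stalkMap x).hom)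
  have hscale : ∀ c : R ⊗[Γ(Y, U)] B, ∃ a : Γ(Y, U), a ∉ p ∧ ∃ b : B, algebraMap Γ(Y, U) _ a * c = 1 ⊗ₜ b := by
    intro c
    induction c with
    | zero => exact ⟨1, fun h => p.ne_top_iff_one.1 (Ideal.IsPrime.ne_top') h, 0, by simp⟩
    | tmul r b =>
      obtain ⟨⟨n, d⟩, hnd⟩ := IsLocalization.surj p.primeCompl r
      refine ⟨d, d.2, algebraMap Γ(Y, U) B n * b, ?_⟩
      rw [Algebra.TensorProduct.algebraMap_apply, Algebra.TensorProduct.tmul_mul_tmul, one_mul, mul_comm, hnd,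
        Algebra.algebraMap_eq_smul_one, TensorProduct.smul_tmul, ← Algebra.smul_def]
    | add c c' hc hc' =>
      obtain ⟨a, ha, b, hb⟩ := hc
      obtain ⟨a', ha', b', hb'⟩ := hc'
      refine ⟨a * a', fun h => (Ideal.IsPrime.mem_or_mem inferInstance h).elim ha ha',
        algebraMap Γ(Y, U) B a' * b + algebraMap Γ(Y, U) B a * b', ?_⟩
      rw [TensorProduct.tmul_add, ← Algebra.smul_def a', ← Algebra.smul_def a, TensorProduct.tmul_smul,
        TensorProduct.tmul_smul, ← hb, ← hb', Algebra.smul_def, Algebra.smul_def, map_mul]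
      ring
  have hμq : ∀ c, c ∉ q ↔ IsUnit (μ c) := fun c => by
    simp only [q, Ideal.mem_comap, IsLocalRing.mem_maximalIdeal, mem_nonunits_iff, not_not]
    rfl
  let _ : Algebra (R ⊗[Γ(Y, U)] B) S := μ.toRingHom.toAlgebra
  haveI : IsScalarTower R (R ⊗[Γ(Y, U)] B) S := .of_algebraMap_eq fun r => (μ.commutes r).symm
  haveI hloc : IsLocalization.AtPrime S q := by
    refine (IsLocalization.iff_of_le_of_exists_dvd q.primeCompl q.primeCompl le_rfl (fun c hc => ⟨c, hc, dvd_rfl⟩)).mp ?_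
    refine { map_units := fun c => (hμq c).1 c.2, surj := fun s => ?_, exists_of_eq := fun {c₁ c₂} h => ?_ }
    · obtain ⟨⟨b, t⟩, hbt⟩ := IsLocalization.surj P.primeCompl s
      refine ⟨⟨1 ⊗ₜ b, ⟨1 ⊗ₜ (t : B), (hμq _).2 ?_⟩⟩, ?_⟩
      · rw [hμ]
        exact IsLocalization.map_units S t
      · change s * μ (1 ⊗ₜ[Γ(Y, U)] (t : B)) = μ (1 ⊗ₜ[Γ(Y, U)] b)
        rw [hμ, hμ]
        exact hbt
    · obtain ⟨a, ha, b, hb⟩ := hscale (c₁ - c₂)
      have h0 : algebraMap B S b = algebraMap B S 0 := by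
        rw [← hμ, ← hb, map_mul, map_sub, show μ c₁ = μ c₂ from h, sub_self, mul_zero, map_zero]
      obtain ⟨t, ht⟩ := IsLocalization.exists_of_eq (M := P.primeCompl) h0
      refine ⟨⟨(1 ⊗ₜ (t : B)) * algebraMap Γ(Y, U) _ a, (hμq _).2 ?_⟩, ?_⟩
      · rw [map_mul, hμ]
        refine IsUnit.mul (IsLocalization.map_units S t) ?_
        rw [IsScalarTower.algebraMap_apply Γ(Y, U) R (R ⊗[Γ(Y, U)] B), μ.commutes]
        exact (IsLocalization.map_units R (⟨a, ha⟩ : p.primeCompl)).map _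
      · rw [← sub_eq_zero, ← mul_sub, mul_assoc, hb, Algebra.TensorProduct.tmul_mul_tmul, one_mul, ht, mul_zero,
          TensorProduct.tmul_zero]
  refine ⟨R ⊗[Γ(Y, U)] B, inferInstance, inferInstance, q, inferInstance, inferInstance, ?_, ?_⟩
  · rw [Ideal.comap_comap, show μ.toRingHom.comp (algebraMap R _) = algebraMap R S from μ.comp_algebraMap]
    exact ((IsLocalRing.local_hom_TFAE (algebraMap R S)).out 0 4).mp hlocal
  · exact ⟨((IsLocalization.algEquiv q.primeCompl S (Localization.AtPrime q))).restrictScalars R⟩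

theorem isEtLike_stalk :
    @Hensel.IsEtLike (Y.presheaf.stalk (f x)) (X.presheaf.stalk x) _ _ _ _ (f.stalkMap x).hom.toAlgebra :=
  let _ := (f.stalkMap x).hom.toAlgebra
  Hensel.isEtLike_of_isEssentiallyEtale (isEssentiallyEtale_stalk f x)

theorem normal_stalk_iff :
    (IsDomain (X.presheaf.stalk x) ∧ IsIntegrallyClosed (X.presheaf.stalk x)) ↔
      (IsDomain (Y.presheaf.stalk (f x)) ∧ IsIntegrallyClosed (Y.presheaf.stalk (f x))) :=
  let _ := (f.stalkMap x).hom.toAlgebra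
  (isEtLike_stalk f x).normal_iff.symm

theorem isNormalScheme_of_etale {X Y : Scheme.{u}} (f : X ⟶ Y) [Etale f] (hY : Pi1.IsNormalScheme Y) :
    Pi1.IsNormalScheme X :=
  fun x => (normal_stalk_iff f x).2 (hY (f x))

end Groth.Agent.EtNormal
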